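import Groth.Agent.FibAmpLib.Core
import Groth.Agent.DRingLib.TensorAmp
import Groth.Agent.DRingLib.WeaklyEtaleAmp
import Groth.Agent.PCHomLib.Rel

/-!
# Tor amplitude over the base at a prime from the fibre
-/

set_option autoImplicit false
set_option linter.style.haveILetI false
set_option linter.unusedSectionVars false
set_option backward.isDefEq.respectTransparency false

universe u

open CategoryTheory Limits MonoidalCategory IsLocalRing
attribute [local instance] HasDerivedCategory.standard

noncomputable section

namespace Groth.Agent.FibTorLib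

open Groth.Agent.DRingLib Groth.Agent.DCohLib

variable {A B : Type u} [CommRing A] [CommRing B] [IsLocalRing A] [IsLocalRing B] [Algebra A B]
  [IsLocalHom (algebraMap A B)] [Algebra.EssFiniteType A B]

/-- A complex of finite projective modules whose closed fibre lives in an interval has tor amplitude there. -/
theorem amp_of_fibre_interval (hflat : (algebraMap A B).Flat) {E : DRing.Cx B} {c : ℤ}
    (hb : DRing.VanishesAbove E c) (hproj : ∀ i, Module.Projective B (E.X i))
    (hfin : ∀ i, Module.Finite B (E.X i)) {a a' b : ℤ} (ha : a' ≤ a) (hac : a ≤ c + 1)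
    (h : ∀ i, (i < a ∨ b < i) →
      ((tensM (ModuleCat.of A (A ⧸ maximalIdeal A))).obj ((DTen.resCx (algebraMap A B)).obj E)).ExactAt i) :
    DRing.HasTorAmplitudeIn A a' b (DRing.toD ((DTen.resCx (algebraMap A B)).obj E)) := by
  let P := (DTen.resCx (algebraMap A B)).obj E
  haveI : Module.Flat A B := RingHom.flat_algebraMap_iff.1 hflat
  let inst : ∀ i, Module A (E.X i) := fun i => Module.compHom (E.X i) (algebraMap A B)
  haveI : ∀ i, IsScalarTower A B (E.X i) := fun i => .of_algebraMap_smul fun _ _ => rfl
  have hfl : ∀ i, Module.Flat A (E.X i) := fun i => by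
    haveI := hproj i
    exact Module.Flat.trans A B (E.X i)
  have hamp := FibAmp.amp_of_fibre hflat hb hproj hfin a hac fun i hi => h i (Or.inl hi)
  have hex : ∀ i, b < i → P.ExactAt i := by
    intro i hi
    haveI := hfin i
    haveI := hfin (i + 1)
    haveI := hfl (i + 1)
    have h' := h i (Or.inr hi)
    rw [HomologicalComplex.exactAt_iff' _ (i - 1) i (i + 1) (by simp) (by simp),
      ShortComplex.ShortExact.moduleCat_exact_iff_function_exact] at h'
    obtain ⟨h1, -⟩ := FibAmp.exact_and_flat_coker (A := A) (E.d (i - 1) i).hom (E.d i (i + 1)).hom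
      (congrArg ModuleCat.Hom.hom (E.d_comp_d (i - 1) i (i + 1))) h'
    refine (exactAt_resCx_iff _ E i).2 ?_
    rw [HomologicalComplex.exactAt_iff' _ (i - 1) i (i + 1) (by simp) (by simp),
      ShortComplex.ShortExact.moduleCat_exact_iff_function_exact]
    exact h1
  obtain ⟨N, hN, hNp, ⟨e⟩⟩ := exists_proj_representative (K := DRing.toD P) (n := b)
    fun i hi => (exactAt_iff_isZero_homologyFunctor P i).1 (hex i (by omega))
  have hv := tensVanish_of_amplitude (isKFlat_of_projective hN hNp) (amp_of_iso e.symm hamp)
  refine amp_of_iso e (amplitude_of_tensVanish_top hN (termwiseFlat_of_projective hNp) fun M i hi => ?_)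
  rcases hi with hi | hi
  · exact hv M i (Or.inl (by omega))
  · exact ShortComplex.exact_of_isZero_X₂ _ ((tensorLeft M).map_isZero (hN i (by omega)))

end Groth.Agent.FibTorLib
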